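import Mathlib.RingTheory.TensorProduct.Basic
import Mathlib.RingTheory.Localization.Away.Basic
import Mathlib.RingTheory.Ideal.Operations
import Mathlib.Algebra.Polynomial.Reverse
import Mathlib.RingTheory.Spectrum.Prime.Topology
import Mathlib.Algebra.Polynomial.AlgebraMap
import Mathlib.RingTheory.Polynomial.Basic

/-!
# A monic equation from a closed image avoiding `X = 0`
-/

universe u

open Polynomial TensorProduct

namespace Groth.Agent.MonicUC14

variable {R C : Type u} [CommRing R] [CommRing C] [Algebra R C]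

/-- The equation `s X = 1` on `Spec C × 𝔸¹`. -/
noncomputable def relElt (s : C) : C ⊗[R] R[X] := s ⊗ₜ (X : R[X]) - 1

/-- From a closed set containing the image of `s X = 1` and avoiding `X = 0`, a monic equation. -/
theorem exists_monic_of_zeroLocus (s : C) (J : Ideal R[X])
    (h1 : PrimeSpectrum.zeroLocus ({relElt s} : Set (C ⊗[R] R[X])) ⊆
      PrimeSpectrum.comap (Algebra.TensorProduct.includeRight : R[X] →ₐ[R] C ⊗[R] R[X]).toRingHom ⁻¹'
        PrimeSpectrum.zeroLocus (J : Set R[X]))
    (h2 : J ⊔ Ideal.span {(X : R[X])} = ⊤) :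
    ∃ p : R[X], p.Monic ∧ aeval s p = 0 := by
  rcases subsingleton_or_nontrivial R with hR | hR
  · haveI := Module.subsingleton R C
    exact ⟨1, monic_one, Subsingleton.elim _ _⟩
  obtain ⟨q, hq, r, hr, hqr⟩ := Submodule.mem_sup.1 ((Ideal.eq_top_iff_one _).1 h2)
  obtain ⟨a, rfl⟩ := Ideal.mem_span_singleton'.1 hr
  have hq0 : q.coeff 0 = 1 := by
    have := congrArg (fun z : R[X] => z.coeff 0) hqr
    simpa using this
  let ι := (Algebra.TensorProduct.includeRight : R[X] →ₐ[R] C ⊗[R] R[X])
  have hrad : ι q ∈ (Ideal.span {relElt (R := R) s}).radical := by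
    rw [← PrimeSpectrum.vanishingIdeal_zeroLocus_eq_radical, PrimeSpectrum.zeroLocus_span,
      PrimeSpectrum.mem_vanishingIdeal]
    exact fun z hz => h1 hz hq
  obtain ⟨N, hN⟩ := hrad
  let L := Localization.Away s
  let x : L := IsLocalization.Away.invSelf s
  have hx : algebraMap C L s * x = 1 := IsLocalization.Away.mul_invSelf s
  let φ : C ⊗[R] R[X] →ₐ[R] L :=
    Algebra.TensorProduct.lift (IsScalarTower.toAlgHom R C L) (aeval x) fun _ _ => Commute.all _ _
  have ht : φ (relElt s) = 0 := by
    simp [φ, relElt, hx]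
  obtain ⟨d, hd⟩ := Ideal.mem_span_singleton'.1 hN
  have hP : aeval x (q ^ N) = 0 := by
    have h := congrArg φ hd
    rw [map_mul, ht, mul_zero, map_pow] at h
    rw [map_pow, h]
    simp [φ, ι]
  let P := q ^ N
  have hP0 : P.coeff 0 = 1 := by
    simp [P, coeff_zero_eq_eval_zero, eval_pow]
    rw [← coeff_zero_eq_eval_zero, hq0, one_pow]
  have hmonic : P.reverse.Monic := by
    rw [Monic, reverse_leadingCoeff, trailingCoeff, natTrailingDegree_eq_zero_of_constantCoeff_ne_zero
      (by rw [constantCoeff_apply, hP0]; exact one_ne_zero), hP0]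
  letI : Invertible x := ⟨algebraMap C L s, hx, (mul_comm _ _).trans hx⟩
  have key := eval₂_reverse_mul_pow (algebraMap R L) x P
  have hs : aeval (algebraMap C L s) P.reverse = 0 := by
    rw [show eval₂ (algebraMap R L) x P = 0 from hP] at key
    have hinv : ⅟x = algebraMap C L s := rfl
    rw [hinv] at key
    exact ((isUnit_of_invertible x).pow _).mul_left_eq_zero.1 key
  rw [aeval_algebraMap_apply] at hs
  obtain ⟨⟨_, M, rfl⟩, hM⟩ := (IsLocalization.map_eq_zero_iff (Submonoid.powers s) L _).1 hs
  exact ⟨X ^ M * P.reverse, (monic_X_pow M).mul hmonic, by simpa using hM⟩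

end Groth.Agent.MonicUC14
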