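import Groth.Agent.Lib.MonicUC14.Main

/-!
# The monic equation of a global section
-/

universe u

open CategoryTheory CategoryTheory.Limits AlgebraicGeometry Opposite TensorProduct

set_option backward.isDefEq.respectTransparency false
set_option backward.isDefEq.respectTransparency.types false

namespace Groth.Agent.MonicUC14

open AlgSp Groth.Agent.AlgSpace Groth.Agent.AlgSpDecent

variable {S : Scheme.{u}}

theorem comp_eq_of_eq {X : Sp S} (s : ↥(gsectEt (OEt X) : CommRingCat.{u + 1})) {E : EtOver X}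
    {W : Over S} (c₁ c₂ : W ⟶ E.obj.left)
    (h : (yon S).map c₁ ≫ E.obj.hom = (yon S).map c₂ ≫ E.obj.hom) :
    c₁.left.appTop.hom (comp s E) = c₂.left.appTop.hom (comp s E) := by
  have sq := E.property.1.isPullback E.obj.hom
  obtain ⟨fst, hfst⟩ := (yon S).map_surjective (E.property.1.fst E.obj.hom)
  let snd := E.property.1.snd E.obj.hom
  rw [← hfst] at sq
  obtain ⟨m, hm⟩ := (yon S).map_surjective (sq.lift ((yon S).map c₁) ((yon S).map c₂) h)
  have h₁ : m ≫ fst = c₁ := (yon S).map_injective (by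
    rw [Functor.map_comp, hm]; exact sq.lift_fst _ _ _)
  have h₂ : m ≫ snd = c₂ := (yon S).map_injective (by
    rw [Functor.map_comp, hm]; exact sq.lift_snd _ _ _)
  let W₀ : EtOver X := EtOver.mk ((yon S).map snd ≫ E.obj.hom)
    (repWith_comp (repWith_of_isPullback sq E.property) E.property)
  have e₁ : fst.left.appTop.hom (comp s E) = comp s W₀ :=
    comp_map s (EtOver.homMk fst sq.w : W₀ ⟶ E)
  have e₂ : snd.left.appTop.hom (comp s E) = comp s W₀ :=
    comp_map s (EtOver.homMk snd rfl : W₀ ⟶ E)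
  rw [← h₁, ← h₂]
  simp only [Over.comp_left, Scheme.Hom.comp_appTop, CommRingCat.comp_apply]
  exact congrArg m.left.appTop.hom (e₁.trans e₂.symm)

set_option maxHeartbeats 1000000 in
theorem exists_monic {V : Over S} [IsAffine V.left] {X : Space S} (f : X.obj ⟶ (yon S).obj V)
    (hqc : IsQuasiCompactMor f) (huc : IsUnivClosedMor f)
    (s : ↥(gsectEt (OEt X.obj) : CommRingCat.{u + 1})) :
    ∃ p : Polynomial Γ(V.left, ⊤), p.Monic ∧ ∀ E : EtOver X.obj,
      Polynomial.eval₂ ((yon S).preimage (E.obj.hom ≫ f)).left.appTop.hom (comp s E) p = 0 := by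
  let R : CommRingCat.{u} := Γ(V.left, ⊤)
  let str : Spec R ⟶ S := V.left.isoSpec.inv ≫ V.hom
  let eV : Over.mk str ≅ V := Over.isoMk V.left.isoSpec.symm rfl
  let π : X.obj ⟶ (yon S).obj (Over.mk str) := f ≫ (yon S).map eV.inv
  have hπ : IsUnivClosedMor π := fun Z Z' hZ g fst snd sq =>
    huc hZ (g ≫ (yon S).map eV.hom) fst snd (sq.of_iso (Iso.refl _) (Iso.refl _) (Iso.refl _)
      ((yon S).mapIso eV) (by simp) (by simp) (by simp [π]) (by simp))
  have hX : IsQuasiCompactSp X.obj := hqc (IsAlgSpace.yon_obj V)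
    ((isQuasiCompactSp_iff (IsAlgSpace.yon_obj V)).2 (compactSpace_yon_of_affine V)) (𝟙 _) (𝟙 _) f
    (IsPullback.of_horiz_isIso ⟨by simp⟩)
  obtain ⟨U, u, hU, hue, hus⟩ := exists_affine_chart hX
  obtain ⟨φ, hφ⟩ := (yon S).map_surjective (u ≫ π)
  let C := Γ(U.left, ⊤)
  let θ : R ⟶ C := Spec.preimage (U.left.isoSpec.inv ≫ φ.left)
  letI : Algebra R C := θ.hom.toAlgebra
  let e : affOver str (algebraMap R C) ≅ U := Over.isoMk U.left.isoSpec.symm (by
    change U.left.isoSpec.inv ≫ U.hom = Spec.map θ ≫ str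
    rw [Spec.map_preimage, Category.assoc, ← Over.w φ]; rfl)
  let u' := (yon S).map e.hom ≫ u
  have hu' : u' ≫ π = (yon S).map (affTo str (algebraMap R C)) := by
    rw [Category.assoc, ← hφ, ← Functor.map_comp]
    congr 1
    ext1
    exact (Spec.map_preimage (U.left.isoSpec.inv ≫ φ.left)).symm
  have : IsIso e.hom.left := (Over.forget S).map_isIso e.hom
  have hue' : RepWith @Etale u' := repWith_comp ((repWith_yon_map_iff @Etale _).2 inferInstance) hue
  have hus' : RepWith @Surjective u' :=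
    repWith_comp ((repWith_yon_map_iff @Surjective _).2 inferInstance) hus
  let E₀ : EtOver X.obj := EtOver.mk u' hue'
  let s₀ : C := (Scheme.ΓSpecIso C).hom (comp s E₀)
  have hs₀ : (Scheme.ΓSpecIso C).inv s₀ = comp s E₀ :=
    (Scheme.ΓSpecIso C).hom_inv_id_apply _
  obtain ⟨p, hp, hp0⟩ := exists_monic_chart str π hπ u' hue' hus' hu' s₀ (fun W c₁ c₂ h => by
    erw [hs₀]
    exact comp_eq_of_eq s (E := E₀) c₁ c₂ h)
  refine ⟨p, hp, fun E => ?_⟩
  obtain ⟨fst, hfst⟩ := (yon S).map_surjective (hue'.1.fst E.obj.hom)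
  let snd := hue'.1.snd E.obj.hom
  have sq := hue'.1.isPullback E.obj.hom
  rw [← hfst] at sq
  let W : EtOver X.obj := EtOver.mk ((yon S).map snd ≫ E.obj.hom)
    (repWith_comp (repWith_of_isPullback sq hue') E.property)
  have : Surjective snd.left :=
    (repWith_yon_map_iff @Surjective _).1 (repWith_of_isPullback sq hus')
  have : Etale snd.left := (repWith_yon_map_iff @Etale _).1 (repWith_of_isPullback sq hue')
  have : Flat snd.left := inferInstance
  have e₁ : fst.left.appTop.hom (comp s E₀) = comp s W := comp_map s (EtOver.homMk fst sq.w : W ⟶ E₀)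
  have e₂ : snd.left.appTop.hom (comp s E) = comp s W := comp_map s (EtOver.homMk snd rfl : W ⟶ E)
  let g := (yon S).preimage (E.obj.hom ≫ f)
  have hg : snd ≫ g = fst ≫ affTo str (algebraMap R C) ≫ eV.hom := (yon S).map_injective (by
    rw [Functor.map_comp, Functor.map_comp, Functor.map_comp, Functor.map_preimage, ← hu',
      ← Category.assoc, ← sq.w]
    simp [π])
  have key : g.left.appTop ≫ snd.left.appTop =
      θ ≫ (Scheme.ΓSpecIso C).inv ≫ fst.left.appTop := by
    have h1 := congrArg (fun m => (m : _ ⟶ V).left.appTop) hg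
    have h2 : V.left.isoSpec.inv.appTop = (Scheme.ΓSpecIso R).inv := by
      have h3 := congrArg Scheme.Hom.appTop (Scheme.isoSpec_inv_toSpecΓ V.left)
      rw [Scheme.Hom.comp_appTop, Scheme.toSpecΓ_appTop, Scheme.Hom.id_appTop] at h3
      rw [← cancel_epi (Scheme.ΓSpecIso R).hom, Iso.hom_inv_id]
      exact h3
    simp only [Over.comp_left, Scheme.Hom.comp_appTop] at h1
    rw [h1]
    change (V.left.isoSpec.inv.appTop ≫ (Spec.map θ).appTop) ≫ fst.left.appTop = _
    rw [h2, ← Scheme.ΓSpecIso_inv_naturality, Category.assoc]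
  refine RigidRel.appTop_injective snd.left ?_
  rw [map_zero, Polynomial.hom_eval₂, e₂, ← e₁, ← hs₀]
  change Polynomial.eval₂ (g.left.appTop ≫ snd.left.appTop).hom
    (((Scheme.ΓSpecIso C).inv ≫ fst.left.appTop).hom s₀) p = 0
  rw [key]
  have h3 := congrArg ((Scheme.ΓSpecIso C).inv ≫ fst.left.appTop).hom hp0
  rw [map_zero, Polynomial.aeval_def, Polynomial.hom_eval₂] at h3
  exact h3

end Groth.Agent.MonicUC14
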