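import Groth.Agent.Lib.AlgSpace.UnivClosedAffineSpace
import Groth.Agent.Lib.RigidRel.H0
import Groth.Agent.Lib.MonicUC14.Alg
import Groth.Prelude.Def_AlgSpOX

/-!
# Global sections along universally closed morphisms to affine schemes satisfy monic equations
-/

universe u

open CategoryTheory CategoryTheory.Limits AlgebraicGeometry Opposite TensorProduct

set_option backward.isDefEq.respectTransparency false
set_option backward.isDefEq.respectTransparency.types false

namespace Groth.Agent.MonicUC14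

open AlgSp Groth.Agent.AlgSpace Groth.Agent.AlgSpDecent

variable {S : Scheme.{u}}

/-- The component of a global section. -/
noncomputable def comp {X : Sp S} (s : ↥(gsectEt (OEt X) : CommRingCat.{u + 1})) (E : EtOver X) :
    Γ(E.obj.left.left, ⊤) :=
  ((limit.π (OEt X).obj (op E)) s).down

theorem comp_map {X : Sp S} (s : ↥(gsectEt (OEt X) : CommRingCat.{u + 1})) {E E' : EtOver X}
    (g : E ⟶ E') : g.hom.left.left.appTop.hom (comp s E') = comp s E := by
  have h := ConcreteCategory.congr_hom (limit.w (OEt X).obj g.op) s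
  exact congrArg ULift.down h

/-- The ring map of a morphism to an affine scheme. -/
noncomputable def ev {Q : Scheme.{u}} {D : CommRingCat.{u}} (q : Q ⟶ Spec D) : D ⟶ Γ(Q, ⊤) :=
  (Scheme.ΓSpecIso D).inv ≫ q.appTop

theorem ev_comp_SpecMap {Q : Scheme.{u}} {D D' : CommRingCat.{u}} (q : Q ⟶ Spec D) (m : D' ⟶ D) :
    ev (q ≫ Spec.map m) = m ≫ ev q := by
  simp only [ev, Scheme.Hom.comp_appTop]
  exact (Scheme.ΓSpecIso_inv_naturality_assoc m q.appTop).symm

theorem mem_zeroLocus_iff_of_ev_eq {Q : Scheme.{u}} {D : CommRingCat.{u}} (q₁ q₂ : Q ⟶ Spec D) (t : D)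
    (h : ev q₁ t = ev q₂ t) (v : Q) :
    (q₁ v : PrimeSpectrum D) ∈ PrimeSpectrum.zeroLocus {t} ↔
      (q₂ v : PrimeSpectrum D) ∈ PrimeSpectrum.zeroLocus {t} := by
  have key : ∀ q : Q ⟶ Spec D,
      (q v : PrimeSpectrum D) ∈ PrimeSpectrum.zeroLocus {t} ↔ v ∉ Q.basicOpen (ev q t) := by
    intro q
    have h1 : q ⁻¹ᵁ (Spec D).basicOpen ((Scheme.ΓSpecIso D).inv t) = Q.basicOpen (ev q t) :=
      Scheme.preimage_basicOpen_top q _
    rw [← h1, basicOpen_eq_of_affine]
    change _ ↔ ¬ ((q v : PrimeSpectrum D) ∈ PrimeSpectrum.basicOpen t)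
    rw [PrimeSpectrum.mem_basicOpen, not_not, PrimeSpectrum.mem_zeroLocus, Set.singleton_subset_iff]
    rfl
  rw [key, key, h]

variable {R : CommRingCat.{u}} (str : Spec R ⟶ S) {C : Type u} [CommRing C] [Algebra R C]

theorem ev_comp_apply {Q : Scheme.{u}} {A D : Type u} [CommRing A] [CommRing D]
    (g : Q ⟶ Spec (CommRingCat.of D)) (m : A →+* D) (x : A) :
    ev (g ≫ Spec.map (CommRingCat.ofHom m)) x = (ev g).hom (m x) := by
  rw [ev_comp_SpecMap]; rfl

/-- Equal ring maps on the generators keep `s X = 1`. -/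
theorem mem_relElt_of_ev_eq {Q : Scheme.{u}} (s₀ : C)
    (g₁ g₂ : Q ⟶ Spec (CommRingCat.of (C ⊗[R] Polynomial R)))
    (hl : ev (g₁ ≫ Spec.map (CommRingCat.ofHom
        (Algebra.TensorProduct.includeLeftRingHom : C →+* C ⊗[R] Polynomial R))) s₀ =
      ev (g₂ ≫ Spec.map (CommRingCat.ofHom
        (Algebra.TensorProduct.includeLeftRingHom : C →+* C ⊗[R] Polynomial R))) s₀)
    (hr : g₁ ≫ Spec.map (CommRingCat.ofHom
        (Algebra.TensorProduct.includeRight : Polynomial R →ₐ[R] C ⊗[R] Polynomial R).toRingHom) =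
      g₂ ≫ Spec.map (CommRingCat.ofHom
        (Algebra.TensorProduct.includeRight : Polynomial R →ₐ[R] C ⊗[R] Polynomial R).toRingHom))
    (v : Q) (hv : (g₁ v : PrimeSpectrum (C ⊗[R] Polynomial R)) ∈
      PrimeSpectrum.zeroLocus {relElt (R := R) s₀}) :
    (g₂ v : PrimeSpectrum (C ⊗[R] Polynomial R)) ∈ PrimeSpectrum.zeroLocus {relElt (R := R) s₀} := by
  refine (mem_zeroLocus_iff_of_ev_eq (D := CommRingCat.of (C ⊗[R] Polynomial R)) g₁ g₂ _ ?_ v).1 hv
  have hr' :=
    congrArg (fun m => ev (D := CommRingCat.of (Polynomial R)) m Polynomial.X) hr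
  have hl2 := (ev_comp_apply g₁ _ s₀).symm.trans (hl.trans (ev_comp_apply g₂ _ s₀))
  have hr2 := (ev_comp_apply g₁ _ (Polynomial.X : Polynomial R)).symm.trans
    (hr'.trans (ev_comp_apply g₂ _ (Polynomial.X : Polynomial R)))
  have hrel : relElt (R := R) s₀ = (s₀ ⊗ₜ (1 : Polynomial R)) * ((1 : C) ⊗ₜ Polynomial.X) - 1 := by
    rw [relElt, Algebra.TensorProduct.tmul_mul_tmul, mul_one, one_mul]
  rw [hrel]
  refine (map_sub (ev g₁).hom _ _).trans (Eq.trans ?_ (map_sub (ev g₂).hom _ _).symm)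
  refine congrArg₂ (· - ·) ?_ ((map_one (ev g₁).hom).trans (map_one (ev g₂).hom).symm)
  refine (map_mul (ev g₁).hom _ _).trans (Eq.trans ?_ (map_mul (ev g₂).hom _ _).symm)
  exact congrArg₂ (· * ·) hl2 hr2

set_option maxHeartbeats 1000000 in
/-- A global section on a chart over `X`, in the affine situation, satisfies a monic equation. -/
theorem exists_monic_chart {X : Space S} (π : X.obj ⟶ (yon S).obj (Over.mk str))
    (huc : IsUnivClosedMor π) (u : (yon S).obj (affOver str (algebraMap R C)) ⟶ X.obj)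
    (hue : RepWith @Etale u) (hus : RepWith @Surjective u)
    (hu : u ≫ π = (yon S).map (affTo str (algebraMap R C))) (s₀ : C)
    (hs : ∀ (W : Over S) (c₁ c₂ : W ⟶ affOver str (algebraMap R C)),
      (yon S).map c₁ ≫ u = (yon S).map c₂ ≫ u →
        c₁.left.appTop.hom ((Scheme.ΓSpecIso (CommRingCat.of C)).inv s₀) =
          c₂.left.appTop.hom ((Scheme.ΓSpecIso (CommRingCat.of C)).inv s₀)) :
    ∃ p : Polynomial R, p.Monic ∧ Polynomial.aeval s₀ p = 0 := by
  let T := affTo str (algebraMap R (Polynomial R))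
  let D := C ⊗[R] Polynomial R
  let ιC : C →+* D := Algebra.TensorProduct.includeLeftRingHom
  let ιX : Polynomial R →ₐ[R] D := Algebra.TensorProduct.includeRight
  let d₁ : affOver str (algebraMap R D) ⟶ affOver str (algebraMap R C) :=
    affMap str ιC (by ext r; simp [ιC, D, Algebra.TensorProduct.algebraMap_apply])
  let d₂ : affOver str (algebraMap R D) ⟶ affOver str (algebraMap R (Polynomial R)) :=
    affMap str ιX.toRingHom ιX.comp_algebraMap
  have sqT := (isPullback_affOver_tensor str C (Polynomial R)).map (yon S)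
  rw [← hu] at sqT
  have sqP := IsPullback.of_hasPullback π ((yon S).map T)
  let a := sqP.lift ((yon S).map d₁ ≫ u) ((yon S).map d₂) ((Category.assoc _ _ _).trans sqT.w)
  have ha₁ : a ≫ pullback.fst π ((yon S).map T) = (yon S).map d₁ ≫ u := IsPullback.lift_fst _ _ _ _
  have ha₂ : a ≫ pullback.snd π ((yon S).map T) = (yon S).map d₂ := IsPullback.lift_snd _ _ _ _
  have sqa : IsPullback ((yon S).map d₁) a u (pullback.fst π ((yon S).map T)) := by
    refine IsPullback.of_bot ?_ ha₁.symm sqP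
    rw [ha₂]; exact sqT
  have hae : RepWith @Etale a := repWith_of_isPullback sqa hue
  have has : RepWith @Surjective a := repWith_of_isPullback sqa hus
  let Zt : Set ↥(affOver str (algebraMap R D)).left :=
    PrimeSpectrum.zeroLocus ({relElt (R := R) s₀} : Set D)
  have hZt : IsClosed Zt := PrimeSpectrum.isClosed_zeroLocus _
  have hsat : ∀ z z', Points.ofPt a z = Points.ofPt a z' → z ∈ Zt → z' ∈ Zt := by
    intro z z' hzz hz
    rw [Points.ofPt_eq_map_ofScheme, Points.ofPt_eq_map_ofScheme] at hzz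
    have hQ := has.1.isPullback a
    obtain ⟨w, hw₁, hw₂⟩ := exists_point_lift hQ (Points.ofScheme _ z) (Points.ofScheme _ z') hzz
    obtain ⟨q₁, hq₁⟩ := (yon S).map_surjective (has.1.fst a)
    let q₂ := has.1.snd a
    obtain ⟨v, rfl⟩ := (Points.schemeEquiv _).surjective w
    rw [← hq₁] at hw₁ hQ
    have hv₁ : q₁.left v = z := (Points.schemeEquiv _).injective
      ((Points.map_yon_map_apply q₁ v).symm.trans hw₁)
    have hv₂ : q₂.left v = z' := (Points.schemeEquiv _).injective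
      ((Points.map_yon_map_apply q₂ v).symm.trans hw₂)
    have hq : (yon S).map q₁ ≫ a = (yon S).map q₂ ≫ a := hQ.w
    have e1 := hs _ (q₁ ≫ d₁) (q₂ ≫ d₁) (by
      rw [Functor.map_comp, Functor.map_comp, Category.assoc, Category.assoc, ← ha₁, reassoc_of% hq])
    have e2 : q₁ ≫ d₂ = q₂ ≫ d₂ := (yon S).map_injective (by
      rw [Functor.map_comp, Functor.map_comp, ← ha₂, reassoc_of% hq])
    rw [← hv₁] at hz
    rw [← hv₂]
    exact mem_relElt_of_ev_eq s₀ q₁.left q₂.left e1 (congrArg CommaMorphism.left e2) v hz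
  -- the closed image
  have hclosed : IsClosed (Points.ofPt a '' Zt) := by
    rw [← isOpen_compl_iff]
    have : (Points.ofPt a '' Zt)ᶜ = Points.ofPt a '' Ztᶜ := by
      refine Set.Subset.antisymm (fun x hx => ?_) ?_
      · obtain ⟨z, rfl⟩ := surjective_ofPt has x
        exact ⟨z, fun h => hx ⟨z, h, rfl⟩, rfl⟩
      · rintro _ ⟨z, hz, rfl⟩ ⟨z', hz', h⟩
        exact hz (hsat z' z h hz')
    rw [this]
    exact isOpenMap_ofPt a hae _ hZt.isOpen_compl
  have hW : IsClosed (d₂.left '' Zt) := by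
    have := (huc (IsAlgSpace.yon_obj _) _ _ _ sqP _ hclosed).preimage
      (Points.schemeHomeo (affOver str (algebraMap R (Polynomial R)))).continuous
    convert this using 1
    ext y
    constructor
    · rintro ⟨z, hz, rfl⟩
      exact ⟨_, ⟨z, hz, rfl⟩, by rw [Points.map_ofPt, ha₂, ofPt_map_eq]; rfl⟩
    · rintro ⟨_, ⟨z, hz, rfl⟩, h⟩
      rw [Points.map_ofPt, ha₂, ofPt_map_eq] at h
      exact ⟨z, hz, (Points.schemeEquiv _).injective h⟩
  obtain ⟨J, hJ⟩ := (PrimeSpectrum.isClosed_iff_zeroLocus_ideal _).1 hW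
  refine exists_monic_of_zeroLocus s₀ J ?_ ?_
  · intro z hz
    exact hJ.subset ⟨z, hz, rfl⟩
  · rw [← PrimeSpectrum.zeroLocus_empty_iff_eq_top, PrimeSpectrum.zeroLocus_sup,
      PrimeSpectrum.zeroLocus_span, Set.eq_empty_iff_forall_notMem]
    rintro y ⟨hy1, hy2⟩
    obtain ⟨z, hz, rfl⟩ := hJ.symm.subset hy1
    have hz' : relElt (R := R) s₀ ∈ z.asIdeal := hz (Set.mem_singleton _)
    have hX : ιX Polynomial.X ∈ z.asIdeal := hy2 (Set.mem_singleton _)
    refine z.2.ne_top ((Ideal.eq_top_iff_one _).2 ?_)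
    have hrel : (1 : D) = ιC s₀ * ιX Polynomial.X - relElt (R := R) s₀ := by
      change (1 : D) = (s₀ ⊗ₜ (1 : Polynomial R)) * ((1 : C) ⊗ₜ Polynomial.X) -
        (s₀ ⊗ₜ (Polynomial.X : Polynomial R) - 1)
      rw [Algebra.TensorProduct.tmul_mul_tmul, mul_one, one_mul, sub_sub_cancel]
    rw [hrel]
    exact z.asIdeal.sub_mem (z.asIdeal.mul_mem_left _ hX) hz'

end Groth.Agent.MonicUC14
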